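import Cfsg.Agent.Lib.SolvableSignalizer.Nodes
import Cfsg.Agent.Lib.SolvableSignalizer.Amalgam.Main

/-!
The subgroup generated by the elements of order `p` of the centres of the maximal `p`-members.
-/

set_option autoImplicit false
set_option linter.style.haveILetI false
set_option linter.unusedSectionVars false

namespace Cfsg.Agent.SolvableSignalizer

open Subgroup
open Cfsg.Agent.Components
open scoped Pointwise

universe u

variable {G : Type u} [Group G] {r : ℕ} {A : Subgroup G} {θ : G → Subgroup G}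

/-- The elements of order dividing `p` in the centre of `Q`. -/
def centreOmega (p : ℕ) (Q : Subgroup G) : Subgroup G where
  carrier := {x | x ∈ Q ∧ x ∈ centralizer (Q : Set G) ∧ x ^ p = 1}
  one_mem' := ⟨one_mem _, one_mem _, one_pow p⟩
  mul_mem' := fun {x y} hx hy => ⟨mul_mem hx.1 hy.1, mul_mem hx.2.1 hy.2.1, by
    rw [(show Commute x y from mem_centralizer_iff.mp hy.2.1 x hx.1).mul_pow, hx.2.2, hy.2.2, one_mul]⟩
  inv_mem' := fun {x} hx => ⟨inv_mem hx.1, inv_mem hx.2.1, by rw [inv_pow, hx.2.2, inv_one]⟩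

lemma mem_centreOmega {p : ℕ} {Q : Subgroup G} {x : G} :
    x ∈ centreOmega p Q ↔ x ∈ Q ∧ x ∈ centralizer (Q : Set G) ∧ x ^ p = 1 := Iff.rfl

lemma normalizer_le_centreOmega (p : ℕ) (Q : Subgroup G) :
    normalizer (Q : Set G) ≤ normalizer ((centreOmega p Q : Subgroup G) : Set G) := by
  refine Signalizer.le_normalizer_of_inv fun g hg x hx => ⟨(mem_normalizer_iff.mp hg x).mp hx.1,
    (mem_normalizer_iff.mp (normalizer_le_centralizer_normalizer Q hg) x).mp hx.2.1, ?_⟩
  rw [conj_pow, hx.2.2, mul_one, mul_inv_cancel]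

lemma centreOmega_conj (p : ℕ) (Q : Subgroup G) (g : G) :
    MulAut.conj g • centreOmega p Q ≤ centreOmega p (MulAut.conj g • Q) := by
  rintro _ ⟨x, ⟨hQ, hC, hp⟩, rfl⟩
  refine ⟨⟨x, hQ, rfl⟩, mem_centralizer_iff.mpr ?_, ?_⟩
  · rintro _ ⟨y, hy, rfl⟩
    show g * y * g⁻¹ * (g * x * g⁻¹) = g * x * g⁻¹ * (g * y * g⁻¹)
    calc _ = g * (y * x) * g⁻¹ := by group
      _ = g * (x * y) * g⁻¹ := by rw [mem_centralizer_iff.mp hC y hy]
      _ = _ := by group
  · show (g * x * g⁻¹) ^ p = 1
    rw [conj_pow, hp, mul_one, mul_inv_cancel]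

/-- Their join over the maximal `p`-members. -/
def centreJoin (r p : ℕ) (A : Subgroup G) (θ : G → Subgroup G) : Subgroup G :=
  ⨆ Q : {Q : Subgroup G // Signalizer.IsMaxQ r p A θ Q}, centreOmega p (Q : Subgroup G)

variable [Finite G] {p : ℕ} [hp : Fact p.Prime]

namespace Minimal

variable (h : Minimal r A θ)
include h

lemma op_normalizer_centreJoin : op A θ ≤ normalizer ((centreJoin r p A θ : Subgroup G) : Set G) := by
  refine sup_le (fun a ha => Amalgam.mem_normalizer_of_iSup fun Q => ⟨Q, ?_⟩)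
    (fun c hc => Amalgam.mem_normalizer_of_iSup fun Q =>
      ⟨⟨_, Signalizer.isMaxQ_conj h.func Q.2 hc⟩, centreOmega_conj p Q c⟩)
  exact (Coprime.conj_smul_eq_self_iff.mpr
    (normalizer_le_centreOmega p _ (Signalizer.member_normalizer Q.2.1 ha))).le

lemma centreOmega_le_core {M : Subgroup G} (hM : IsNode r A θ M) (hpM : Pure p M)
    {Q : Subgroup G} (hQ : Signalizer.IsMaxQ r p A θ Q) :
    centreOmega p Q ≤ Cfsg.pCoreOf p M := by
  set P := Cfsg.pCoreOf p M
  have hPQ : P ≤ Q := (h.pCoreOf_le_wCore hM.isXA).trans (iInf_le_of_le ⟨Q, hQ⟩ le_rfl)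
  have hCP : centreOmega p Q ≤ centralizer (P : Set G) :=
    fun x hx => centralizer_le hPQ hx.2.1
  have hCM : centreOmega p Q ≤ M :=
    h.le_node_of_normalizes_pCore hM hpM.1 (Signalizer.member_of_le hQ.1 (fun x hx => hx.1)
      ((Signalizer.member_normalizer hQ.1).trans (normalizer_le_centreOmega p Q)))
      (hCP.trans (centralizer_le_normalizer _))
  have hF : fitOf M ≤ P := fitOf_le_of_forall fun u hu => by
    by_cases hu' : InFit u M
    · exact (hpM.2 u hu' ▸ le_rfl : Cfsg.pCoreOf u M ≤ P)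
    · rw [InFit, not_and] at hu'
      rw [Classical.not_not.mp (hu' hu)]
      exact bot_le
  intro x hx
  exact hF (inf_centralizer_fitOf_le hM.mem.1 ⟨hCM hx, centralizer_le hF (hCP hx)⟩)

lemma centreJoin_le_core {M : Subgroup G} (hM : IsNode r A θ M) (hpM : Pure p M) :
    centreJoin r p A θ ≤ Cfsg.pCoreOf p M :=
  iSup_le fun Q => h.centreOmega_le_core hM hpM Q.2

lemma wCore_centralizes_centreJoin :
    wCore r p A θ ≤ centralizer ((centreJoin r p A θ : Subgroup G) : Set G) :=
  le_centralizer_iff.mp (iSup_le fun Q =>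
    le_centralizer_iff.mp ((iInf_le_of_le Q le_rfl).trans
      (le_centralizer_iff.mp fun x hx => hx.2.1)))

lemma centreJoin_elem {M : Subgroup G} (hM : IsNode r A θ M) (hpM : Pure p M) :
    Cfsg.IsElementaryAbelian p (centreJoin r p A θ) := by
  refine Amalgam.elem_iSup (fun Q => PLocal.ThompsonSubgroup.isElementaryAbelian_iff.mpr
    ⟨fun a ha b hb => mem_centralizer_iff.mp hb.2.1 a ha.1, fun a ha => ha.2.2⟩) fun i j => ?_
  have h1 : centreOmega p (i : Subgroup G) ≤ (j : Subgroup G) :=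
    ((h.centreOmega_le_core hM hpM i.2).trans (h.pCoreOf_le_wCore hM.isXA)).trans
      (iInf_le_of_le j le_rfl)
  exact h1.trans (le_centralizer_iff.mp fun x hx => hx.2.1)

lemma centreJoin_ne_bot {M : Subgroup G} (hM : IsNode r A θ M) (hpM : Pure p M) :
    centreJoin r p A θ ≠ ⊥ := by
  obtain ⟨Q, hQ⟩ := h.exists_maxQ p
  have hQ1 : Q ≠ ⊥ := fun e => hpM.1.2 (le_bot_iff.mp
    (e ▸ (h.pCoreOf_le_wCore hM.isXA).trans (iInf_le_of_le ⟨Q, hQ⟩ le_rfl)))
  haveI : Nontrivial Q := (nontrivial_iff_ne_bot Q).mpr hQ1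
  haveI := (hQ.2.1).center_nontrivial
  obtain ⟨z, hz, hz1⟩ := (nontrivial_iff_exists_ne_one (center Q)).mp inferInstance
  obtain ⟨n, hn⟩ := hQ.2.1 z
  -- an element of order `p` of the centre
  have hex : ∃ x ∈ center Q, x ≠ 1 ∧ x ^ p = 1 := by
    induction n generalizing z with
    | zero => exact absurd (by simpa using hn) hz1
    | succ n ih =>
      by_cases hzp : z ^ p = 1
      · exact ⟨z, hz, hz1, hzp⟩
      · exact ih (z ^ p) (pow_mem hz p) hzp (by rwa [← pow_mul, ← pow_succ'])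
  obtain ⟨x, hx, hx1, hxp⟩ := hex
  intro hbot
  refine hx1 (Subtype.ext (mem_bot.mp (hbot ▸ ?_ : (x : G) ∈ (⊥ : Subgroup G))))
  refine le_iSup (fun Q : {Q : Subgroup G // Signalizer.IsMaxQ r p A θ Q} =>
    centreOmega p (Q : Subgroup G)) ⟨Q, hQ⟩ ⟨x.2, mem_centralizer_iff.mpr fun y hy => ?_, ?_⟩
  · exact congrArg Subtype.val (mem_center_iff.mp hx ⟨y, hy⟩)
  · exact congrArg Subtype.val hxp

/-- A normal subgroup of `M` acting on the normal closure of the join as a `p`-group acts trivially. -/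
lemma centreJoin_reduced {M : Subgroup G} (hM : IsNode r A θ M) :
    Amalgam.Reduced p M (Amalgam.vgrp (centreJoin r p A θ) M) := by
  haveI := h.fact
  intro N hNM hMN hpow
  set Z := centreJoin r p A θ
  set V := Amalgam.vgrp Z M
  suffices hZ : N ≤ centralizer (Z : Set G) by
    refine le_centralizer_iff.mp (iSup_le fun m => le_centralizer_iff.mp ?_)
    intro n hn
    refine mem_centralizer_iff.mpr ?_
    rintro _ ⟨z, hz, rfl⟩
    have h1 : z * ((m : G)⁻¹ * n * m) = (m : G)⁻¹ * n * m * z :=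
      mem_centralizer_iff.mp (hZ (Linear.conj_mem_of_normalizer' (hMN m.2) hn)) z hz
    show (m : G) * z * (m : G)⁻¹ * n = n * ((m : G) * z * (m : G)⁻¹)
    calc (m : G) * z * (m : G)⁻¹ * n = (m : G) * (z * ((m : G)⁻¹ * n * m)) * (m : G)⁻¹ := by group
      _ = (m : G) * ((m : G)⁻¹ * n * m * z) * (m : G)⁻¹ := by rw [h1]
      _ = _ := by group
  refine le_centralizer_iff.mp (iSup_le fun Q => le_centralizer_iff.mp ?_)
  set Y := N ⊓ centralizer ((centreOmega p (Q : Subgroup G) : Subgroup G) : Set G)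
  set C := N ⊓ centralizer (V : Set G)
  suffices hY : Y.relIndex N = 1 from (relIndex_eq_one.mp hY).trans inf_le_right
  -- a Sylow subgroup of `M`
  obtain ⟨c, hc, S, hS⟩ := Signalizer.exists_sylow_conj_inf h.elem h.cube_le h.func Q.2 hM.mem
  set c' : M := ⟨c, hM.core_le hc⟩
  set S' := ((MulAut.conj c'⁻¹ • S : Sylow p M) : Subgroup M).map M.subtype with hS'
  have hS'Q : S' = (Q : Subgroup G) ⊓ M := by
    rw [hS', Coprime.sylow_map_smul, hS, Subgroup.smul_inf, InvMemClass.coe_inv,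
      Coprime.conj_inv_smul_smul,
      Coprime.conj_smul_eq_self_iff.mpr (le_normalizer (M.inv_mem c'.2))]
  have hS'p : IsPGroup p S' := (MulAut.conj c'⁻¹ • S).isPGroup'.map _
  have hS'M : S' ≤ M := map_subtype_le _
  have hidx : ¬ p ∣ S'.relIndex M := by
    rw [relIndex, hS', subgroupOf, comap_map_eq_self_of_injective M.subtype_injective]
    exact Sylow.not_dvd_index _
  -- the index of `Y` in `N` is prime to `p`
  have h1 : Y.relIndex N ∣ S'.relIndex N := by
    rw [← inf_relIndex_right S' N]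
    exact relIndex_dvd_of_le_left N (le_inf inf_le_right (le_centralizer_iff.mp fun x hx =>
      centralizer_le (inf_le_left.trans (hS'Q.le.trans inf_le_left)) hx.2.1))
  have h2 : S'.relIndex N ∣ S'.relIndex M := by
    have hsup := Amalgam.card_sup_mul_card_inf' (X := N) (Y := S') (hS'M.trans hMN)
    have e1 : Nat.card ↥(N ⊓ S') * S'.relIndex N = Nat.card N := by
      rw [inf_comm, ← inf_relIndex_right S' N, ← relIndex_bot_left, ← relIndex_bot_left,
        relIndex_mul_relIndex ⊥ _ _ bot_le inf_le_right]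
    have e2 : Nat.card S' * S'.relIndex (N ⊔ S') = Nat.card ↥(N ⊔ S') := by
      rw [← relIndex_bot_left, ← relIndex_bot_left,
        relIndex_mul_relIndex ⊥ _ _ bot_le le_sup_right]
    have e3 : S'.relIndex (N ⊔ S') = S'.relIndex N := by
      refine Nat.eq_of_mul_eq_mul_left (Nat.mul_pos (Nat.card_pos (α := S'))
        (Nat.card_pos (α := ↥(N ⊓ S')))) ?_
      calc Nat.card S' * Nat.card ↥(N ⊓ S') * S'.relIndex (N ⊔ S')
          = Nat.card S' * S'.relIndex (N ⊔ S') * Nat.card ↥(N ⊓ S') := by ring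
        _ = Nat.card N * Nat.card S' := by rw [e2, hsup]
        _ = Nat.card S' * (Nat.card ↥(N ⊓ S') * S'.relIndex N) := by rw [e1]; ring
        _ = _ := by ring
    rw [← e3]
    exact Dvd.intro _ (relIndex_mul_relIndex S' (N ⊔ S') M le_sup_right (sup_le hNM hS'M))
  -- and a power of `p`
  have hNV : N ≤ normalizer (V : Set G) := hNM.trans Amalgam.Hyp.le_normalizer_vgrp
  haveI : (C.subgroupOf N).Normal := normal_subgroupOf_of_le_normalizer
    (le_normalizer_inf le_normalizer (hNV.trans (normalizer_le_centralizer_normalizer V)))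
  obtain ⟨i, hi⟩ : ∃ i, C.relIndex N = p ^ i := by
    have hq : IsPGroup p (N ⧸ C.subgroupOf N) := by
      intro x
      obtain ⟨n, rfl⟩ := QuotientGroup.mk_surjective x
      obtain ⟨k, hk⟩ := hpow n n.2
      refine ⟨k, (QuotientGroup.eq_one_iff _).mpr (mem_subgroupOf.mpr ⟨pow_mem n.2 _, ?_⟩)⟩
      simpa using hk
    obtain ⟨i, hi⟩ := IsPGroup.iff_card.mp hq
    exact ⟨i, by rw [relIndex, index_eq_card, hi]⟩
  have h3 : Y.relIndex N ∣ C.relIndex N := relIndex_dvd_of_le_left N (inf_le_inf_left _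
    (centralizer_le (SetLike.coe_subset_coe.mpr
      ((le_iSup (fun Q : {Q : Subgroup G // Signalizer.IsMaxQ r p A θ Q} =>
        centreOmega p (Q : Subgroup G)) Q).trans (Amalgam.le_vgrp Z M)))))
  exact Nat.eq_one_of_dvd_coprimes ((hp.out.coprime_iff_not_dvd.mpr hidx).symm.pow_right i)
    (h1.trans h2) (hi ▸ h3)

end Minimal

end Cfsg.Agent.SolvableSignalizer
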