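import Cfsg.Agent.Lib.SolvableSignalizer.Pure.Centre
import Cfsg.Agent.Lib.SolvableSignalizer.Tools

/-!
A node whose Fitting subgroup is a `p`-group contains `W_p`, and is the only one of its kind.
-/

set_option autoImplicit false
set_option linter.style.haveILetI false
set_option linter.unusedSectionVars false

namespace Cfsg.Agent.SolvableSignalizer

open Subgroup
open Cfsg.Agent.Components
open Amalgam (vgrp ugrp)
open scoped Pointwise

universe u

variable {G : Type u} [Group G] [Finite G] {r : ℕ} {A : Subgroup G} {θ : G → Subgroup G}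

namespace Minimal

variable (h : Minimal r A θ) {p : ℕ} [hp : Fact p.Prime]
include h

lemma pure_cent {M : Subgroup G} (hM : IsNode r A θ M) (hpM : Pure p M) :
    M ⊓ centralizer ((Cfsg.pCoreOf p M : Subgroup G) : Set G) ≤ Cfsg.pCoreOf p M := by
  have hF : fitOf M ≤ Cfsg.pCoreOf p M := fitOf_le_of_forall fun u hu => by
    by_cases hu' : InFit u M
    · exact (hpM.2 u hu' ▸ le_rfl : Cfsg.pCoreOf u M ≤ Cfsg.pCoreOf p M)
    · rw [InFit, not_and] at hu'
      rw [Classical.not_not.mp (hu' hu)]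
      exact bot_le
  exact fun x hx => hF (inf_centralizer_fitOf_le hM.mem.1 ⟨hx.1, centralizer_le hF hx.2⟩)

lemma pure_local {M T : Subgroup G} (hM : IsNode r A θ M) (hpM : Pure p M) (hTM : T ≤ M)
    (hpT : IsPGroup p T) (hT : op A θ ≤ normalizer (T : Set G)) : Amalgam.Local r p M T A where
  primeR := h.prime
  ne := inFit_ne h hM.mem hpM.1
  solv := hM.mem.1
  TK := hTM
  pT := hpT
  elemA := h.elem
  AK := Signalizer.member_normalizer hM.mem
  AT := le_op_left.trans hT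
  coprime := hM.mem.2.1
  fixed := (Signalizer.member_inf_centralizer_le hM.mem le_rfl).trans (core_le_op.trans hT)

/-- A nontrivial `A`-invariant subgroup of `M`, normalised by `M`. -/
lemma le_node_of_vgrp {M : Subgroup G} (hM : IsNode r A θ M) (hpM : Pure p M) {V : Subgroup G}
    (hV : V ∈ Cfsg.signalizerFamily r A θ)
    (hn : V ≤ normalizer ((vgrp (centreJoin r p A θ) M : Subgroup G) : Set G)) : V ≤ M := by
  have hle : vgrp (centreJoin r p A θ) M ≤ Cfsg.pCoreOf p M := iSup_le fun k =>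
    (pointwise_smul_le_pointwise_smul_iff.mpr (h.centreJoin_le_core hM hpM)).trans
      (Coprime.conj_smul_eq_self_iff.mpr (le_normalizer_pCoreOf p M k.2)).le
  refine h.le_node_of_normalizes hM (hle.trans (pCoreOf_le p M)) Amalgam.Hyp.le_normalizer_vgrp
    (fun a ha => Amalgam.Hyp.vgrp_normalizer (Signalizer.member_normalizer hM.mem ha)
      (le_op_left.trans h.op_normalizer_centreJoin ha)) ?_ hV hn
  exact fun e => h.centreJoin_ne_bot hM hpM (le_bot_iff.mp (e ▸ Amalgam.le_vgrp _ M))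

/-- The translates of a pure node by `N_W(W ⊓ M)`. -/
def translates (_h : Minimal r A θ) (p : ℕ) (M : Subgroup G) : Set (Subgroup G) :=
  {K | ∃ n ∈ wCore r p A θ ⊓ normalizer ((wCore r p A θ ⊓ M : Subgroup G) : Set G),
    MulAut.conj n • M = K}

/-- `W_p ≤ M`. -/
theorem wCore_le_pure {M : Subgroup G} (hM : IsNode r A θ M) (hpM : Pure p M) :
    wCore r p A θ ≤ M := by
  classical
  by_contra hWM
  set W := wCore r p A θ
  set Z := centreJoin r p A θ
  set T := W ⊓ M with hT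
  set NT := W ⊓ normalizer (T : Set G) with hNT
  set 𝒢 := h.translates p M
  have hWx := h.wCore_isXA p
  have hWp := h.wCore_isPGroup p
  have hTop : op A θ ≤ normalizer (T : Set G) := le_normalizer_inf hWx.norm hM.isXA.norm
  have hNTop : op A θ ≤ normalizer (NT : Set G) :=
    le_normalizer_inf hWx.norm (hTop.trans le_normalizer)
  have hNTm : NT ∈ Cfsg.signalizerFamily r A θ :=
    Signalizer.member_of_le hWx.mem inf_le_left (le_op_left.trans hNTop)
  have hPT : Cfsg.pCoreOf p M ≤ T := le_inf (h.pCoreOf_le_wCore hM.isXA) (pCoreOf_le p M)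
  have hZW : ∀ n ∈ W, n ∈ normalizer (Z : Set G) := fun n hn =>
    centralizer_le_normalizer _ (h.wCore_centralizes_centreJoin hn)
  have hAZ : A ≤ normalizer (Z : Set G) := le_op_left.trans h.op_normalizer_centreJoin
  have hM𝒢 : M ∈ 𝒢 := ⟨1, one_mem _, Coprime.conj_smul_one M⟩
  have hperm : ∀ n ∈ NT, ∀ K ∈ 𝒢, MulAut.conj n • K ∈ 𝒢 := by
    rintro n hn _ ⟨m, hm, rfl⟩
    exact ⟨n * m, NT.mul_mem hn hm, Coprime.conj_smul_mul n m M⟩
  have hpermA : ∀ a ∈ A, ∀ K ∈ 𝒢, MulAut.conj a • K ∈ 𝒢 := by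
    rintro a ha _ ⟨m, hm, rfl⟩
    refine ⟨a * m * a⁻¹, Linear.conj_mem_of_normalizer (hNTop (le_op_left ha)) hm, ?_⟩
    rw [← Coprime.conj_smul_mul, Coprime.conj_smul_mul (a * m) a⁻¹,
      Coprime.conj_smul_eq_self_iff.mpr (inv_mem (Signalizer.member_normalizer hM.mem ha))]
  choose n hn hnK using fun (K : 𝒢) => K.2
  let A' : Subgroup G → Subgroup G := fun K =>
    if hK : K ∈ 𝒢 then MulAut.conj (n ⟨K, hK⟩) • A else A
  have hA' : ∀ {K} (hK : K ∈ 𝒢), A' K = MulAut.conj (n ⟨K, hK⟩) • A := fun hK => dif_pos hK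
  have hfix : ∀ m ∈ NT, MulAut.conj m • T = T := fun m hm =>
    Coprime.conj_smul_eq_self_iff.mpr hm.2
  have hfixZ : ∀ m ∈ NT, MulAut.conj m • Z = Z := fun m hm =>
    Coprime.conj_smul_eq_self_iff.mpr (hZW m hm.1)
  have hV : ∀ m ∈ NT, vgrp Z (MulAut.conj m • M) = MulAut.conj m • vgrp Z M := fun m hm =>
    (Amalgam.vgrp_conj (hZW m hm.1)).symm
  have hVP : vgrp Z M ≤ Cfsg.pCoreOf p M := iSup_le fun k =>
    (pointwise_smul_le_pointwise_smul_iff.mpr (h.centreJoin_le_core hM hpM)).trans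
      (Coprime.conj_smul_eq_self_iff.mpr (le_normalizer_pCoreOf p M k.2)).le
  have hVA : A ≤ normalizer ((vgrp Z M : Subgroup G) : Set G) := fun a ha =>
    Amalgam.Hyp.vgrp_normalizer (Signalizer.member_normalizer hM.mem ha) (hAZ ha)
  -- the normal closure of `V_M` under `N_W(T)`
  set V := ⨆ K : 𝒢, vgrp Z (K : Subgroup G)
  have hVT : V ≤ T := iSup_le fun ⟨K, m, hm, e⟩ => by
    show vgrp Z K ≤ T
    rw [← e, hV m hm, ← hfix m hm]
    exact pointwise_smul_le_pointwise_smul_iff.mpr (hVP.trans hPT)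
  have hVn : ∀ g, (∀ K ∈ 𝒢, MulAut.conj g • K ∈ 𝒢) → g ∈ normalizer (Z : Set G) →
      g ∈ normalizer (V : Set G) := fun g hg hgZ => Amalgam.mem_normalizer_of_iSup fun K =>
    ⟨⟨_, hg K K.2⟩, (Amalgam.vgrp_conj hgZ).le⟩
  have hV1 : V ≠ ⊥ := fun e => h.centreJoin_ne_bot hM hpM
    (le_bot_iff.mp (e ▸ (Amalgam.le_vgrp Z M).trans (le_iSup_of_le ⟨M, hM𝒢⟩ le_rfl)))
  have hVm : V ∈ Cfsg.signalizerFamily r A θ := Signalizer.member_of_le hM.mem
    (hVT.trans inf_le_right) fun a ha => hVn a (hpermA a ha) (hAZ ha)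
  -- the captured centraliser
  have hcapt : ∀ m ∈ NT, ∀ x ∈ M ⊓ centralizer (ugrp 𝒢 Z M : Set G), m⁻¹ * x * m ∈ M := by
    intro m hm x hx
    set H := thetaN A θ V
    have hHm := thetaN_mem h hVm hV1
    set C := M ⊓ centralizer (ugrp 𝒢 Z M : Set G)
    have hVU : V ≤ ugrp 𝒢 Z M := iSup_le fun K => le_iSup_of_le (1 : M) (le_iSup_of_le K (by simp))
    have hAU : A ≤ normalizer (ugrp 𝒢 Z M : Set G) := fun a ha =>
      Amalgam.mem_normalizer_of_iSup fun l =>
        ⟨⟨a * l * a⁻¹, Linear.conj_mem_of_normalizer (Signalizer.member_normalizer hM.mem ha) l.2⟩,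
          by
            show Subgroup.map (MulAut.conj a).toMonoidHom _ ≤ _
            rw [Subgroup.map_iSup]
            refine iSup_le fun K => le_iSup_of_le ⟨_, hpermA a ha K K.2⟩ ?_
            show MulAut.conj a • MulAut.conj (l : G) • vgrp Z (K : Subgroup G) ≤
              MulAut.conj (a * l * a⁻¹) • vgrp Z (MulAut.conj a • (K : Subgroup G))
            rw [← Amalgam.vgrp_conj (hAZ ha), ← Coprime.conj_smul_mul, ← Coprime.conj_smul_mul,
              inv_mul_cancel_right]⟩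
    have hCm : C ∈ Cfsg.signalizerFamily r A θ := Signalizer.member_of_le hM.mem inf_le_left
      (le_normalizer_inf (Signalizer.member_normalizer hM.mem)
        (hAU.trans (normalizer_le_centralizer_normalizer _)))
    have hNTV : NT ≤ normalizer (V : Set G) := fun g hg => hVn g (hperm g hg) (hZW g hg.1)
    have hNH : NT ≤ H := le_thetaN h hNTm hNTV
    have hCH : C ≤ H := le_thetaN h hCm
      (inf_le_right.trans ((centralizer_le hVU).trans (centralizer_le_normalizer _)))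
    set D := H ⊓ centralizer (vgrp Z M : Set G)
    have hDM : D ≤ M := h.le_node_of_vgrp hM hpM
      (Signalizer.member_of_le hHm inf_le_left (le_normalizer_inf (Signalizer.member_normalizer hHm)
        (hVA.trans (normalizer_le_centralizer_normalizer _))))
      (inf_le_right.trans (centralizer_le_normalizer _))
    refine hDM ⟨H.mul_mem (H.mul_mem (H.inv_mem (hNH hm)) (hCH hx)) (hNH hm),
      mem_centralizer_iff.mpr fun v hv => ?_⟩
    have hle : MulAut.conj m • vgrp Z M ≤ ugrp 𝒢 Z M := by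
      refine le_iSup_of_le (1 : M) (le_iSup_of_le ⟨_, hperm m hm M hM𝒢⟩ ?_)
      rw [OneMemClass.coe_one, Coprime.conj_smul_one, hV m hm]
    have h1 : m * v * m⁻¹ * x = x * (m * v * m⁻¹) :=
      mem_centralizer_iff.mp hx.2 _ (hle ⟨v, hv, rfl⟩)
    calc v * (m⁻¹ * x * m) = m⁻¹ * (m * v * m⁻¹ * x) * m := by group
      _ = m⁻¹ * (x * (m * v * m⁻¹)) * m := by rw [h1]
      _ = _ := by group
  have hugrp : ∀ m ∈ NT, ugrp 𝒢 Z (MulAut.conj m • M) = MulAut.conj m • ugrp 𝒢 Z M := by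
    intro m hm
    show _ = Subgroup.map (MulAut.conj m).toMonoidHom _
    simp only [ugrp, Subgroup.map_iSup]
    refine le_antisymm (iSup₂_le fun l K => ?_) (iSup₂_le fun l K => ?_)
    · refine le_iSup₂_of_le ⟨_, Coprime.mem_conj_smul.mp l.2⟩
        ⟨_, hperm m⁻¹ (NT.inv_mem hm) K K.2⟩ ?_
      show _ ≤ MulAut.conj m • MulAut.conj (m⁻¹ * l * m) • vgrp Z (MulAut.conj m⁻¹ • (K : Subgroup G))
      rw [← Amalgam.vgrp_conj (hZW _ (W.inv_mem hm.1)), ← Coprime.conj_smul_mul,
        ← Coprime.conj_smul_mul, show m * (m⁻¹ * l * m) * m⁻¹ = (l : G) by group]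
    · refine le_iSup₂_of_le ⟨_, Coprime.conj_mem_conj_smul l.2⟩ ⟨_, hperm m hm K K.2⟩ ?_
      show MulAut.conj m • MulAut.conj (l : G) • vgrp Z (K : Subgroup G) ≤
        MulAut.conj (m * l * m⁻¹) • vgrp Z (MulAut.conj m • (K : Subgroup G))
      rw [← Amalgam.vgrp_conj (hZW _ hm.1), ← Coprime.conj_smul_mul,
        ← Coprime.conj_smul_mul, inv_mul_cancel_right]
  have H : Amalgam.Hyp r p 𝒢 T Z A' := by
    refine ⟨?_, ?_, h.centreJoin_ne_bot hM hpM, h.centreJoin_elem hM hpM,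
      inf_le_left.trans h.wCore_centralizes_centreJoin, ?_, ?_, ?_, ?_, ?_, ?_⟩
    · intro K hK
      have l := (h.pure_local hM hpM inf_le_right (hWp.to_le inf_le_left) hTop).conj (n ⟨K, hK⟩)
      rw [hnK, hfix _ (hn _)] at l
      rwa [hA' hK]
    · intro K hK a ha L hL
      rw [hA' hK] at ha
      obtain ⟨b, hb, rfl⟩ := ha
      show MulAut.conj (n ⟨K, hK⟩ * b * (n ⟨K, hK⟩)⁻¹) • L ∈ 𝒢
      rw [Coprime.conj_smul_mul, Coprime.conj_smul_mul]
      exact hperm _ (hn _) _ (hpermA b hb _ (hperm _ (NT.inv_mem (hn _)) L hL))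
    · intro K hK
      rw [hA' hK, ← hfixZ _ (hn ⟨K, hK⟩), ← Coprime.conj_smul_normalizer]
      exact pointwise_smul_le_pointwise_smul_iff.mpr hAZ
    · rintro K ⟨m, hm, rfl⟩
      rw [← Amalgam.conj_pCoreOf, ← hfix m hm]
      exact pointwise_smul_le_pointwise_smul_iff.mpr hPT
    · rintro K ⟨m, hm, rfl⟩
      rw [← Amalgam.conj_pCoreOf, ← hfixZ m hm]
      exact pointwise_smul_le_pointwise_smul_iff.mpr (h.centreJoin_le_core hM hpM)
    · rintro K ⟨m, hm, rfl⟩
      rw [← Amalgam.conj_pCoreOf, ← Amalgam.conj_inf_centralizer]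
      exact pointwise_smul_le_pointwise_smul_iff.mpr (h.pure_cent hM hpM)
    · rintro K ⟨m, hm, rfl⟩
      rw [hV m hm]
      exact (h.centreJoin_reduced hM).conj m
    · rintro _ ⟨k, hk, rfl⟩ _ ⟨l, hl, rfl⟩
      rw [hugrp l hl, ← Amalgam.conj_inf_centralizer]
      rintro _ ⟨x, hx, rfl⟩
      have hm : l⁻¹ * k ∈ NT := NT.mul_mem (NT.inv_mem hl) hk
      refine Coprime.mem_conj_smul.mpr ?_
      show k⁻¹ * (l * x * l⁻¹) * k ∈ M
      rw [show k⁻¹ * (l * x * l⁻¹) * k = (l⁻¹ * k)⁻¹ * x * (l⁻¹ * k) by group]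
      exact hcapt _ hm x hx
  obtain ⟨U, hU1, hUT, hUK, hUh⟩ := H.exists_normalized hM𝒢
  have hAU : A ≤ normalizer (U : Set G) := fun a ha => hUh a (hpermA a ha) (hAZ ha)
  have hNTU : NT ≤ normalizer (U : Set G) := fun g hg => hUh g (hperm g hg) (hZW g hg.1)
  have hNTM : NT ≤ M := h.le_node_of_normalizes hM (hUT.trans inf_le_right) (hUK M hM𝒢) hAU hU1
    hNTm hNTU
  exact Signalizer.normalizer_inf_not_le hWp inf_le_left (fun e => hWM (e.ge.trans inf_le_right))
    fun x hx => ⟨hx.2, hNTM ⟨hx.2, hx.1⟩⟩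

/-- There is only one pure node for each prime. -/
theorem pure_unique {M N : Subgroup G} (hM : IsNode r A θ M) (hpM : Pure p M)
    (hN : IsNode r A θ N) (hpN : Pure p N) : M = N := by
  set W := wCore r p A θ
  set Z := centreJoin r p A θ
  set 𝒢 : Set (Subgroup G) := {K | IsNode r A θ K ∧ Pure p K}
  have hWx := h.wCore_isXA p
  have hAZ : A ≤ normalizer (Z : Set G) := le_op_left.trans h.op_normalizer_centreJoin
  have hpermA : ∀ a ∈ A, ∀ K ∈ 𝒢, MulAut.conj a • K ∈ 𝒢 := fun a ha K hK => by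
    rw [Coprime.conj_smul_eq_self_iff.mpr (Signalizer.member_normalizer hK.1.mem ha)]
    exact hK
  have H : Amalgam.Hyp r p 𝒢 W Z (fun _ => A) := by
    refine ⟨fun K hK => h.pure_local hK.1 hK.2 (h.wCore_le_pure hK.1 hK.2) (h.wCore_isPGroup p)
      hWx.norm, fun K _ a ha => hpermA a ha, h.centreJoin_ne_bot hM hpM, h.centreJoin_elem hM hpM,
      h.wCore_centralizes_centreJoin, fun _ _ => hAZ, fun K hK => h.pCoreOf_le_wCore hK.1.isXA,
      fun K hK => h.centreJoin_le_core hK.1 hK.2, fun K hK => h.pure_cent hK.1 hK.2,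
      fun K hK => h.centreJoin_reduced hK.1, fun K hK L hL => ?_⟩
    have hn : L ⊓ centralizer (ugrp 𝒢 Z L : Set G) ≤ centralizer (vgrp Z K : Set G) :=
      inf_le_right.trans (centralizer_le (SetLike.coe_subset_coe.mpr
        (le_iSup_of_le (1 : L) (le_iSup_of_le ⟨K, hK⟩ (by simp)))))
    refine h.le_node_of_vgrp hK.1 hK.2 (Signalizer.member_of_le hL.1.mem inf_le_left ?_)
      (hn.trans (centralizer_le_normalizer _))
    refine le_normalizer_inf (Signalizer.member_normalizer hL.1.mem)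
      (le_trans ?_ (normalizer_le_centralizer_normalizer _))
    intro a ha
    refine Amalgam.mem_normalizer_of_iSup fun l =>
      ⟨⟨a * l * a⁻¹, Linear.conj_mem_of_normalizer (Signalizer.member_normalizer hL.1.mem ha) l.2⟩, ?_⟩
    show Subgroup.map (MulAut.conj a).toMonoidHom _ ≤ _
    rw [Subgroup.map_iSup]
    refine iSup_le fun X => le_iSup_of_le ⟨_, hpermA a ha X X.2⟩ ?_
    show MulAut.conj a • MulAut.conj (l : G) • vgrp Z (X : Subgroup G) ≤
      MulAut.conj (a * l * a⁻¹) • vgrp Z (MulAut.conj a • (X : Subgroup G))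
    rw [← Amalgam.vgrp_conj (hAZ ha), ← Coprime.conj_smul_mul, ← Coprime.conj_smul_mul,
      inv_mul_cancel_right]
  obtain ⟨U, hU1, hUW, hUK, hUh⟩ := H.exists_normalized (K₀ := M) ⟨hM, hpM⟩
  have hAU : A ≤ normalizer (U : Set G) := fun a ha => hUh a (hpermA a ha) (hAZ ha)
  have hNM : N ≤ M := h.le_node_of_normalizes hM (hUW.trans (h.wCore_le_pure hM hpM))
    (hUK M ⟨hM, hpM⟩) hAU hU1 hN.mem (hUK N ⟨hN, hpN⟩)
  exact hN.eq_of_le hM.mem hNM

end Minimal

/-- The facts about pure nodes. -/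
theorem Minimal.pureFacts (h : Minimal r A θ) : PureFacts r A θ where
  le q M hM hpM := haveI := Fact.mk hpM.1.1; h.wCore_le_pure hM hpM
  unique q M N hM hN hpM hpN := haveI := Fact.mk hpM.1.1; h.pure_unique hM hpM hN hpN

end Cfsg.Agent.SolvableSignalizer
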